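import Groth.Agent.QuotLib.TrivHom
import Groth.Agent.AlgSpPts.Geom
import Mathlib.AlgebraicGeometry.Sites.Etale
import Mathlib.CategoryTheory.FiberedCategory.Fiber

/-!
# Points of quotient stacks over algebraically closed fields are orbits
-/

set_option backward.isDefEq.respectTransparency false
set_option backward.isDefEq.respectTransparency.types false

universe u

open CategoryTheory CategoryTheory.Limits MonoidalCategory CartesianMonoidalCategory MonObj GrpObj AlgebraicGeometry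

namespace Groth.Agent.StkPts10

open Groth.Agent.QuotLib Groth.Agent.GrpSchLib AlgSt

variable {S : Scheme.{u}} {G : Over S} [GrpObj G] {X : Over S} {aX : AlgGrp.Action G X}

section

variable {K : Precoverage Scheme.{u}} [K.HasIsos]

/-- A morphism of quotient objects with invertible base map is an isomorphism. -/
theorem exists_iso_of_base {A B : AlgSt.QuotObj K G aX} (ψ : A ⟶ B) [IsIso ψ.base] :
    ∃ e : A ≅ B, e.hom = ψ := by
  refine ⟨(homLiftIso ψ (𝟙 B) (asIso ψ.base).symm (by simp)).symm, ?_⟩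
  refine hom_ext_of_comp (𝟙 B) (by simp [homLiftIso, homLift]) ?_
  exact (homLift_comp (𝟙 B) ψ ψ.base (by simp)).trans (Category.comp_id ψ).symm

variable {T : Over S}

/-- Objects over `T` with sections of their torsors are isomorphic over `T` iff the points lie in one orbit. -/
theorem iso_iff_orbit (A B : (AlgSt.QuotObj.forget K G aX).Fiber T)
    (tA : T ⟶ A.1.P) (tB : T ⟶ B.1.P) (hA : tA ≫ A.1.π = eqToHom A.2.symm)
    (hB : tB ≫ B.1.π = eqToHom B.2.symm) :
    Nonempty (A ≅ B) ↔ ∃ g : T ⟶ G, lift g (tA ≫ A.1.φ) ≫ aX.act = tB ≫ B.1.φ := by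
  constructor
  · rintro ⟨e⟩
    have : Functor.IsHomLift (AlgSt.QuotObj.forget K G aX) (𝟙 T) e.hom.1 := e.hom.2
    have hb : e.hom.1.base = eqToHom A.2 ≫ 𝟙 T ≫ eqToHom B.2.symm :=
      IsHomLift.fac' (AlgSt.QuotObj.forget K G aX) (𝟙 T) e.hom.1
    have h₁ : tB ≫ B.1.π = (tA ≫ e.hom.1.top) ≫ B.1.π := by
      rw [Category.assoc, e.hom.1.cart.w, ← Category.assoc, hA, hb, hB]
      simp
    let p := B.1.cart.lift tB (tA ≫ e.hom.1.top) h₁
    refine ⟨p ≫ fst G B.1.P, ?_⟩
    have hp1 : p ≫ B.1.act.act = tB := B.1.cart.lift_fst _ _ _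
    have hp2 : p ≫ snd G B.1.P = tA ≫ e.hom.1.top := B.1.cart.lift_snd _ _ _
    conv_rhs => rw [← hp1, Category.assoc, B.1.eqv, ← Category.assoc]
    congr 1
    apply CartesianMonoidalCategory.hom_ext
    · simp
    · simp only [lift_snd, Category.assoc, whiskerLeft_snd]
      rw [← Category.assoc p, hp2, Category.assoc, e.hom.1.wφ]
  · rintro ⟨g, hg⟩
    obtain ⟨h, hhb, -⟩ := (hom_triv_iff (K := K) (𝟙 T) (tB ≫ B.1.φ) (tA ≫ A.1.φ)).2 g (by
      rw [Category.id_comp]; exact hg)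
    let ψA := h ≫ trivHom A.1 tA _ rfl
    let ψB := trivHom B.1 tB (tB ≫ B.1.φ) rfl
    have hψA : ψA.base = eqToHom A.2.symm := by
      change h.base ≫ tA ≫ A.1.π = _
      rw [hhb, hA]; exact Category.id_comp _
    have hψB : ψB.base = eqToHom B.2.symm := hB
    have : IsIso ψA.base := by rw [hψA]; infer_instance
    have : IsIso ψB.base := by rw [hψB]; infer_instance
    obtain ⟨eA, heA⟩ := exists_iso_of_base ψA
    obtain ⟨eB, heB⟩ := exists_iso_of_base ψB
    let e := eA.symm ≪≫ eB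
    have hiso : ∀ {C D : AlgSt.QuotObj K G aX} (f : C ≅ D), IsIso f.hom.base := fun f =>
      ⟨f.inv.base, by rw [← QuotObj.comp_base, f.hom_inv_id]; rfl, by rw [← QuotObj.comp_base, f.inv_hom_id]; rfl⟩
    have := hiso eA
    have := hiso e
    have he : e.hom.base = eqToHom A.2 ≫ eqToHom B.2.symm := by
      have h1 : eA.inv.base ≫ eqToHom A.2.symm = 𝟙 _ := by
        rw [← hψA, ← heA, ← QuotObj.comp_base, eA.inv_hom_id]; rfl
      change eA.inv.base ≫ eB.hom.base = _
      rw [heB, hψB, ← cancel_epi (eA.hom.base), ← Category.assoc, ← Category.assoc, ← QuotObj.comp_base,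
        eA.hom_inv_id]
      rw [heA, hψA]
      simp
    have he' : e.inv.base = eqToHom B.2 ≫ eqToHom A.2.symm := by
      rw [← cancel_epi e.hom.base, ← QuotObj.comp_base, e.hom_inv_id, he]
      simp
    have : Functor.IsHomLift (AlgSt.QuotObj.forget K G aX) (𝟙 T) e.hom :=
      IsHomLift.of_fac' (AlgSt.QuotObj.forget K G aX) (𝟙 T) e.hom A.2 B.2 (by simpa [AlgSt.QuotObj.forget] using he)
    have : Functor.IsHomLift (AlgSt.QuotObj.forget K G aX) (𝟙 T) e.inv :=
      IsHomLift.of_fac' (AlgSt.QuotObj.forget K G aX) (𝟙 T) e.inv B.2 A.2 (by simpa [AlgSt.QuotObj.forget] using he')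
    exact ⟨⟨⟨e.hom, inferInstance⟩, ⟨e.inv, inferInstance⟩, Functor.Fiber.hom_ext e.hom_inv_id,
      Functor.Fiber.hom_ext e.inv_hom_id⟩⟩

/-- Every point is the point of a trivial torsor with its unit section. -/
theorem exists_object_of_point (x : T ⟶ X) :
    ∃ (A : (AlgSt.QuotObj.forget K G aX).Fiber T) (t : T ⟶ A.1.P),
      t ≫ A.1.π = eqToHom A.2.symm ∧ t ≫ A.1.φ = x :=
  ⟨⟨triv K G aX x, rfl⟩, sec G T, lift_snd _ _, sec_φ x⟩

end

/-- Étale torsors over an algebraically closed field have sections. -/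
theorem exists_sec {Ω : Type u} [Field Ω] [IsAlgClosed Ω] {str : Spec (CommRingCat.of Ω) ⟶ S}
    (A : (AlgSt.QuotObj.forget Scheme.etalePrecoverage G aX).Fiber (Over.mk str)) :
    ∃ t : Over.mk str ⟶ A.1.P, t ≫ A.1.π = eqToHom A.2.symm := by
  obtain ⟨⟨base, P, act, π, cart, loc, φ, eqv⟩, hA⟩ := A
  obtain rfl : base = Over.mk str := hA
  obtain ⟨R, hR, hsec⟩ := loc
  obtain ⟨_, _, hf, w, -⟩ := hR.1 (IsLocalRing.closedPoint Ω)
  obtain ⟨hf⟩ := hf
  rename_i W f
  obtain ⟨s, hs⟩ := hsec f hf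
  have : Etale f := hR.2 hf
  let h₀ : Over.mk (f ≫ str) ⟶ Over.mk str := Over.homMk f rfl
  have : Etale h₀.left := ‹Etale f›
  obtain ⟨σ, hσ, -⟩ := AlgSpPts.exists_section_of_etale h₀ w
  have hs' : s ≫ π.left = f := hs
  have hσ' : σ.left ≫ f = 𝟙 (Spec (CommRingCat.of Ω)) := congrArg CommaMorphism.left hσ
  refine ⟨Over.homMk (σ.left ≫ s) ?_, Over.OverMorphism.ext ?_⟩
  · change (σ.left ≫ s) ≫ P.hom = str
    rw [← Over.w π]
    change (σ.left ≫ s) ≫ π.left ≫ str = str
    rw [Category.assoc, reassoc_of% hs', reassoc_of% hσ']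
    exact Category.id_comp _
  · change (σ.left ≫ s) ≫ π.left = 𝟙 _
    rw [Category.assoc, hs', hσ']
    rfl

end Groth.Agent.StkPts10
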